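import Groth.Agent.Grpsch.AffGrpd
import Mathlib.RingTheory.Flat.Basic
import Mathlib.RingTheory.RingHom.Flat
import Mathlib.RingTheory.RingHom.FiniteType
import Mathlib.RingTheory.TensorProduct.Basic

/-!
# Local finiteness for the regular comodule of a flat groupoid ring (N1 of G1, team A)

`G : RGrpd A B`, `A` Noetherian, `s` flat: every finite subset of `B` lies in a finitely generated `A`-submodule `E` of `B`
(through `s`) which is a subcomodule; in coordinates `c_j(α β) = ∑ c_i(α) g_ij(β)`.
-/

set_option autoImplicit false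
universe u

open Groth.Agent.Grpsch.AffGrpd TensorProduct

namespace Groth.Agent.ResProp.EF.K956

variable {A B : Type u} [CommRing A] [CommRing B] (G : RGrpd A B)

/-- `B` as an algebra over `A` through `t` -/
def Bt (_ : RGrpd A B) : Type u := B

instance : CommRing (Bt G) := inferInstanceAs (CommRing B)

/-- identity -/
def bt : B ≃+* Bt G := RingEquiv.refl B

instance : Algebra A (Bt G) := ((bt G : B →+* Bt G).comp G.t).toAlgebra

/-- `B` as an algebra over `A` through `s` -/
def Bs (_ : RGrpd A B) : Type u := B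

instance : CommRing (Bs G) := inferInstanceAs (CommRing B)

/-- identity -/
def bs : B ≃+* Bs G := RingEquiv.refl B

instance : Algebra A (Bs G) := ((bs G : B →+* Bs G).comp G.s).toAlgebra

theorem bt_smul (a : A) (y : B) : a • bt G y = bt G (G.t a * y) := by
  rw [Algebra.smul_def, map_mul]; rfl

theorem bs_smul (a : A) (y : B) : a • bs G y = bs G (G.s a * y) := by
  rw [Algebra.smul_def, map_mul]; rfl

/-- the ring of composable pairs `(α, β)`, `β` on the left -/
abbrev R2 : Type u := Bt G ⊗[A] Bs G

/-- the arrow `α` -/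
noncomputable def al : B →+* R2 G :=
  ((Algebra.TensorProduct.includeRight : Bs G →ₐ[A] R2 G) : Bs G →+* R2 G).comp (bs G : B →+* Bs G)

/-- the arrow `β` -/
noncomputable def be : B →+* R2 G :=
  ((Algebra.TensorProduct.includeLeft : Bt G →ₐ[A] R2 G) : Bt G →+* R2 G).comp (bt G : B →+* Bt G)

theorem al_apply (y : B) : al G y = (1 : Bt G) ⊗ₜ[A] bs G y := rfl

theorem be_apply (y : B) : be G y = bt G y ⊗ₜ[A] (1 : Bs G) := rfl

theorem al_be : (al G).comp G.s = (be G).comp G.t := by
  ext a
  exact ((Algebra.TensorProduct.includeRight : Bs G →ₐ[A] R2 G).commutes a).trans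
    ((Algebra.TensorProduct.includeLeft : Bt G →ₐ[A] R2 G).commutes a).symm

/-- the map of a composable pair -/
noncomputable def lift2 {T : Type u} [CommRing T] (α β : B →+* T) (h : α.comp G.s = β.comp G.t) : R2 G →+* T :=
  letI : Algebra A T := (α.comp G.s).toAlgebra
  ((Algebra.TensorProduct.lift (S := A) (C := T)
    (({ (β.comp ((bt G).symm : Bt G →+* B)) with commutes' := fun a => (RingHom.congr_fun h a).symm } : Bt G →ₐ[A] T))
    (({ (α.comp ((bs G).symm : Bs G →+* B)) with commutes' := fun _ => rfl } : Bs G →ₐ[A] T))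
      (fun _ _ => Commute.all _ _) : R2 G →ₐ[A] T) : R2 G →+* T)

theorem lift2_tmul {T : Type u} [CommRing T] (α β : B →+* T) (h : α.comp G.s = β.comp G.t) (x y : B) :
    lift2 G α β h (bt G x ⊗ₜ[A] bs G y) = β x * α y := rfl

theorem lift2_al {T : Type u} [CommRing T] (α β : B →+* T) (h : α.comp G.s = β.comp G.t) :
    (lift2 G α β h).comp (al G) = α := by
  ext y
  rw [RingHom.comp_apply, al_apply]
  have := lift2_tmul G α β h 1 y
  rw [map_one, map_one, one_mul] at this
  exact this

theorem lift2_be {T : Type u} [CommRing T] (α β : B →+* T) (h : α.comp G.s = β.comp G.t) :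
    (lift2 G α β h).comp (be G) = β := by
  ext y
  rw [RingHom.comp_apply, be_apply]
  have := lift2_tmul G α β h y 1
  rw [map_one, map_one, mul_one] at this
  exact this

theorem comp_congr {T : Type u} [CommRing T] {α α' β β' : B →+* T} (h1 : α = α') (h2 : β = β')
    (h : α.comp G.s = β.comp G.t) : G.comp α β h = G.comp α' β' (by rw [← h1, ← h2, h]) := by
  subst h1; subst h2; rfl

/-- the comultiplication -/
noncomputable def De : B →+* R2 G := G.comp (al G) (be G) (al_be G)

theorem comp_eq {T : Type u} [CommRing T] (α β : B →+* T) (h : α.comp G.s = β.comp G.t) :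
    G.comp α β h = (lift2 G α β h).comp (De G) := by
  rw [De, G.comp_nat]
  exact comp_congr G (lift2_al G α β h).symm (lift2_be G α β h).symm h

theorem De_s (a : A) : De G (G.s a) = be G (G.s a) := RingHom.congr_fun (G.comp_s _ _ (al_be G)) a

theorem De_t (a : A) : De G (G.t a) = al G (G.t a) := RingHom.congr_fun (G.comp_t _ _ (al_be G)) a

/-! ### restriction of scalars along `s` -/

/-- a `Bt`-module as an `A`-module through `s` -/
def Sm (_ : RGrpd A B) (X : Type u) : Type u := X

section Sm

variable (X : Type u) [AddCommGroup X]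

instance : AddCommGroup (Sm G X) := inferInstanceAs (AddCommGroup X)

/-- identity -/
def sm : X ≃+ Sm G X := AddEquiv.refl X

variable [Module (Bt G) X]

instance : Module A (Sm G X) := Module.compHom X ((bt G : B →+* Bt G).comp G.s)

theorem sm_smul (a : A) (x : X) : a • sm G X x = sm G X (bt G (G.s a) • x) := rfl

end Sm

section main

variable (F : Submodule A (Bs G))

/-- `π : B ⊗ B → B ⊗ (B / F)` -/
noncomputable abbrev pr : R2 G →ₗ[Bt G] Bt G ⊗[A] (Bs G ⧸ F) := F.mkQ.baseChange (Bt G)

/-- `δ = π Δ` -/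
noncomputable def dl : Bs G →ₗ[A] Sm G (Bt G ⊗[A] (Bs G ⧸ F)) where
  toFun b := sm G _ (pr G F (De G ((bs G).symm b)))
  map_add' x y := by rw [map_add, map_add, map_add, map_add]
  map_smul' a x := by
    obtain ⟨x, rfl⟩ := (bs G).surjective x
    rw [bs_smul, RingEquiv.symm_apply_apply, RingEquiv.symm_apply_apply, map_mul, De_s, RingHom.id_apply, sm_smul,
      ← map_smul, be_apply, Algebra.smul_def (bt G (G.s a)) (De G x)]
    rfl

theorem dl_bs (b : B) : dl G F (bs G b) = sm G _ (pr G F (De G b)) := rfl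

/-- the counit `B → A`, linear through `t` -/
noncomputable def eL : Bt G →ₗ[A] A where
  toFun x := G.e ((bt G).symm x)
  map_add' x y := by rw [map_add, map_add]
  map_smul' a x := by
    obtain ⟨x, rfl⟩ := (bt G).surjective x
    rw [bt_smul, RingEquiv.symm_apply_apply, RingEquiv.symm_apply_apply, map_mul, RingHom.id_apply, smul_eq_mul]
    congr 1
    exact RingHom.congr_fun G.e_t a

theorem eL_bt (x : B) : eL G (bt G x) = G.e x := rfl

/-- `x ⊗ q ↦ e(x) q` -/
noncomputable def cu (Q : Type u) [AddCommGroup Q] [Module A Q] : Bt G ⊗[A] Q →ₗ[A] Q :=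
  (TensorProduct.lid A Q).toLinearMap ∘ₗ LinearMap.rTensor Q (eL G)

theorem cu_tmul (Q : Type u) [AddCommGroup Q] [Module A Q] (x : B) (q : Q) : cu G Q (bt G x ⊗ₜ q) = G.e x • q := by
  simp [cu, eL_bt]

theorem cu_De (b : B) : cu G (Bs G) (De G b) = bs G b := by
  have h0 : (RingHom.id B).comp G.s = (G.s.comp G.e).comp G.t := by
    rw [RingHom.comp_assoc, G.e_t, RingHom.comp_id, RingHom.id_comp]
  have key : ∀ z : R2 G, cu G (Bs G) z = bs G (lift2 G (RingHom.id B) (G.s.comp G.e) h0 z) := by
    intro z
    induction z using TensorProduct.induction_on with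
    | zero => simp
    | add x y hx hy => rw [map_add, map_add, map_add, hx, hy]
    | tmul x y =>
      obtain ⟨x, rfl⟩ := (bt G).surjective x
      obtain ⟨y, rfl⟩ := (bs G).surjective y
      rw [cu_tmul, bs_smul, lift2_tmul]
      rfl
  rw [key, ← RingHom.comp_apply (lift2 G _ _ h0), ← comp_eq]
  have := G.comp_e (RingHom.id B)
  exact congrArg (bs G) (RingHom.congr_fun this b)

theorem ker_dl_le : LinearMap.ker (dl G F) ≤ F := by
  intro x hx
  obtain ⟨b, rfl⟩ := (bs G).surjective x
  have h1 : pr G F (De G b) = 0 := (sm G _).injective (by rw [← dl_bs, map_zero]; exact hx)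
  have key : ∀ z : R2 G, cu G _ (pr G F z) = F.mkQ (cu G _ z) := by
    intro z
    induction z using TensorProduct.induction_on with
    | zero => simp
    | add x y hx hy => rw [map_add, map_add, map_add, map_add, hx, hy]
    | tmul x y =>
      obtain ⟨x, rfl⟩ := (bt G).surjective x
      rw [LinearMap.baseChange_tmul, cu_tmul, cu_tmul, map_smul]
  have h2 := key (De G b)
  rw [h1, map_zero, cu_De] at h2
  exact (Submodule.Quotient.mk_eq_zero F).1 h2.symm

/-! ### coassociativity -/

/-- `R2` as an algebra through `β s` -/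
def R2s : Type u := R2 G

instance : CommRing (R2s G) := inferInstanceAs (CommRing (R2 G))

/-- identity -/
noncomputable def rs : R2 G ≃+* R2s G := RingEquiv.refl _

noncomputable instance : Algebra A (R2s G) := ((rs G : R2 G →+* R2s G).comp ((be G).comp G.s)).toAlgebra

theorem rs_smul (a : A) (z : R2 G) : a • rs G z = rs G (be G (G.s a) * z) := by
  rw [Algebra.smul_def, map_mul]; rfl

/-- the ring of composable triples -/
abbrev R3 : Type u := Bt G ⊗[A] R2s G

/-- the arrow `γ` -/
noncomputable def ga : B →+* R3 G :=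
  ((Algebra.TensorProduct.includeLeft : Bt G →ₐ[A] R3 G) : Bt G →+* R3 G).comp (bt G : B →+* Bt G)

/-- the pair `(α, β)` -/
noncomputable def ab : R2 G →+* R3 G :=
  ((Algebra.TensorProduct.includeRight : R2s G →ₐ[A] R3 G) : R2s G →+* R3 G).comp (rs G : R2 G →+* R2s G)

theorem ga_apply (x : B) : ga G x = bt G x ⊗ₜ (1 : R2s G) := rfl

theorem ab_apply (z : R2 G) : ab G z = (1 : Bt G) ⊗ₜ rs G z := rfl

theorem h12 : ((ab G).comp (al G)).comp G.s = ((ab G).comp (be G)).comp G.t := by
  rw [RingHom.comp_assoc, al_be, RingHom.comp_assoc]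

theorem h23 : ((ab G).comp (be G)).comp G.s = (ga G).comp G.t := by
  ext a
  exact ((Algebra.TensorProduct.includeRight : R2s G →ₐ[A] R3 G).commutes a).trans
    ((Algebra.TensorProduct.includeLeft : Bt G →ₐ[A] R3 G).commutes a).symm

/-- `π` on `R2s` -/
noncomputable def prs : R2s G →ₗ[A] Sm G (Bt G ⊗[A] (Bs G ⧸ F)) where
  toFun z := sm G _ (pr G F ((rs G).symm z))
  map_add' x y := by rw [map_add, map_add, map_add]
  map_smul' a x := by
    obtain ⟨x, rfl⟩ := (rs G).surjective x
    rw [rs_smul, RingEquiv.symm_apply_apply, RingEquiv.symm_apply_apply, RingHom.id_apply, sm_smul,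
      ← map_smul, be_apply, Algebra.smul_def (bt G (G.s a)) x]
    rfl

theorem prs_rs (z : R2 G) : prs G F (rs G z) = sm G _ (pr G F z) := rfl

/-- `y ↦ y ⊗ q` -/
noncomputable def th (Q : Type u) [AddCommGroup Q] [Module A Q] (q : Q) : Bs G →ₗ[A] Sm G (Bt G ⊗[A] Q) where
  toFun y := sm G _ (bt G ((bs G).symm y) ⊗ₜ q)
  map_add' x y := by rw [map_add, map_add, TensorProduct.add_tmul, map_add]
  map_smul' a x := by
    obtain ⟨x, rfl⟩ := (bs G).surjective x
    rw [bs_smul, RingEquiv.symm_apply_apply, RingEquiv.symm_apply_apply, RingHom.id_apply, sm_smul,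
      TensorProduct.smul_tmul', smul_eq_mul, ← map_mul]

theorem th_bs (Q : Type u) [AddCommGroup Q] [Module A Q] (q : Q) (y : B) :
    th G Q q (bs G y) = sm G _ (bt G y ⊗ₜ q) := rfl

theorem th_add (Q : Type u) [AddCommGroup Q] [Module A Q] (q q' : Q) : th G Q (q + q') = th G Q q + th G Q q' := by
  refine LinearMap.ext fun y => ?_
  obtain ⟨y, rfl⟩ := (bs G).surjective y
  rw [LinearMap.add_apply, th_bs, th_bs, th_bs, TensorProduct.tmul_add, map_add]

theorem th_bal (Q : Type u) [AddCommGroup Q] [Module A Q] (a : A) (q : Q) (z : R2 G) :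
    LinearMap.lTensor (Bt G) (th G Q q) (al G (G.t a) * z) = LinearMap.lTensor (Bt G) (th G Q (a • q)) z := by
  induction z using TensorProduct.induction_on with
  | zero => simp
  | add x y hx hy => rw [mul_add, map_add, map_add, hx, hy]
  | tmul x y =>
    obtain ⟨y, rfl⟩ := (bs G).surjective y
    rw [al_apply, Algebra.TensorProduct.tmul_mul_tmul, one_mul, ← map_mul, LinearMap.lTensor_tmul,
      LinearMap.lTensor_tmul, th_bs, th_bs, ← TensorProduct.smul_tmul, bt_smul]

/-- `x ⊗ q ↦ Δ(x) ⊗ q` -/
noncomputable def Ps (Q : Type u) [AddCommGroup Q] [Module A Q] :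
    Bt G ⊗[A] Q →+ Bt G ⊗[A] Sm G (Bt G ⊗[A] Q) :=
  TensorProduct.liftAddHom
    { toFun := fun x =>
        { toFun := fun q => LinearMap.lTensor (Bt G) (th G Q q) (De G ((bt G).symm x))
          map_zero' := by
            have : th G Q 0 = 0 := by
              have h := th_add G Q 0 0
              rw [add_zero] at h
              simpa using h
            rw [this, LinearMap.lTensor_zero, LinearMap.zero_apply]
          map_add' := fun q q' => by rw [th_add, LinearMap.lTensor_add, LinearMap.add_apply] }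
      map_zero' := by
        ext q
        change LinearMap.lTensor (Bt G) (th G Q q) (De G ((bt G).symm 0)) = 0
        rw [map_zero, map_zero, map_zero]
      map_add' := fun x y => by
        ext q
        change LinearMap.lTensor (Bt G) (th G Q q) (De G ((bt G).symm (x + y))) =
          LinearMap.lTensor (Bt G) (th G Q q) (De G ((bt G).symm x)) +
          LinearMap.lTensor (Bt G) (th G Q q) (De G ((bt G).symm y))
        rw [map_add, map_add, map_add] }
    (fun a x q => by
      obtain ⟨x, rfl⟩ := (bt G).surjective x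
      change LinearMap.lTensor (Bt G) (th G Q q) (De G ((bt G).symm (a • bt G x))) =
        LinearMap.lTensor (Bt G) (th G Q (a • q)) (De G ((bt G).symm (bt G x)))
      rw [bt_smul, RingEquiv.symm_apply_apply, RingEquiv.symm_apply_apply, map_mul, De_t, th_bal])

theorem Ps_tmul (Q : Type u) [AddCommGroup Q] [Module A Q] (x : B) (q : Q) :
    Ps G Q (bt G x ⊗ₜ q) = LinearMap.lTensor (Bt G) (th G Q q) (De G x) := rfl

theorem De_mem (b : B) (hb : pr G F (De G b) = 0) : LinearMap.lTensor (Bt G) (dl G F) (De G b) = 0 := by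
  have hc : G.comp ((ab G).comp (al G)) ((ab G).comp (be G)) (h12 G) = (ab G).comp (De G) := by
    rw [De, G.comp_nat]
  have hD : (G.comp ((ab G).comp (al G)) ((ab G).comp (be G)) (h12 G)).comp G.s = (ga G).comp G.t :=
    (G.comp_s _ _ (h12 G)).trans (h23 G)
  have hE : ((ab G).comp (al G)).comp G.s = (G.comp ((ab G).comp (be G)) (ga G) (h23 G)).comp G.t :=
    (h12 G).trans (G.comp_t _ _ (h23 G)).symm
  have has := G.assoc ((ab G).comp (al G)) ((ab G).comp (be G)) (ga G) (h12 G) (h23 G)
  have h1 := RingHom.congr_fun has b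
  rw [comp_eq G (G.comp ((ab G).comp (al G)) ((ab G).comp (be G)) (h12 G)) (ga G) hD,
    comp_eq G ((ab G).comp (al G)) (G.comp ((ab G).comp (be G)) (ga G) (h23 G)) hE,
    RingHom.comp_apply, RingHom.comp_apply] at h1
  have claim1 : ∀ z : R2 G, LinearMap.lTensor (Bt G) (prs G F)
      (lift2 G (G.comp ((ab G).comp (al G)) ((ab G).comp (be G)) (h12 G)) (ga G) hD z) =
        LinearMap.lTensor (Bt G) (dl G F) z := by
    intro z
    induction z using TensorProduct.induction_on with
    | zero => simp
    | add x y hx hy => rw [map_add, map_add, map_add, hx, hy]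
    | tmul x y =>
      obtain ⟨x, rfl⟩ := (bt G).surjective x
      obtain ⟨y, rfl⟩ := (bs G).surjective y
      rw [lift2_tmul, hc, RingHom.comp_apply, ga_apply, ab_apply, Algebra.TensorProduct.tmul_mul_tmul, one_mul,
        mul_one, LinearMap.lTensor_tmul, LinearMap.lTensor_tmul, prs_rs, dl_bs]
  have claim3 : ∀ (y : B) (w : R2 G), LinearMap.lTensor (Bt G) (prs G F)
      (lift2 G ((ab G).comp (be G)) (ga G) (h23 G) w * (ab G).comp (al G) y) =
        LinearMap.lTensor (Bt G) (th G _ (F.mkQ (bs G y))) w := by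
    intro y w
    induction w using TensorProduct.induction_on with
    | zero => simp
    | add x y hx hy => rw [map_add, add_mul, map_add, map_add, hx, hy]
    | tmul x z =>
      obtain ⟨x, rfl⟩ := (bt G).surjective x
      obtain ⟨z, rfl⟩ := (bs G).surjective z
      rw [lift2_tmul, RingHom.comp_apply, RingHom.comp_apply, ga_apply, ab_apply, ab_apply,
        Algebra.TensorProduct.tmul_mul_tmul, Algebra.TensorProduct.tmul_mul_tmul, one_mul, mul_one, mul_one,
        ← map_mul, be_apply, al_apply, Algebra.TensorProduct.tmul_mul_tmul, one_mul, mul_one,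
        LinearMap.lTensor_tmul, LinearMap.lTensor_tmul, prs_rs, th_bs, LinearMap.baseChange_tmul]
  have claim2 : ∀ z : R2 G, LinearMap.lTensor (Bt G) (prs G F)
      (lift2 G ((ab G).comp (al G)) (G.comp ((ab G).comp (be G)) (ga G) (h23 G)) hE z) =
        Ps G _ (pr G F z) := by
    intro z
    induction z using TensorProduct.induction_on with
    | zero => simp
    | add x y hx hy => rw [map_add, map_add, map_add, map_add, hx, hy]
    | tmul x y =>
      obtain ⟨x, rfl⟩ := (bt G).surjective x
      obtain ⟨y, rfl⟩ := (bs G).surjective y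
      rw [lift2_tmul, comp_eq, RingHom.comp_apply, claim3, LinearMap.baseChange_tmul, Ps_tmul]
  rw [← claim1, h1, claim2, hb, map_zero]

end main

theorem i_i : G.i.comp G.i = RingHom.id B := by
  have h1 : (RingHom.id B).comp G.s = G.i.comp G.t := by rw [G.i_t, RingHom.id_comp]
  have h2 : G.i.comp G.s = (G.i.comp G.i).comp G.t := by rw [RingHom.comp_assoc, G.i_t]
  have a1 := G.assoc (RingHom.id B) G.i (G.i.comp G.i) h1 h2
  have a2 := G.comp_i (RingHom.id B)
  have a3 := G.comp_i G.i
  have a4 := G.comp_e (RingHom.id B)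
  have a5 := G.e_comp (G.i.comp G.i)
  have b1 : G.comp (RingHom.id B) G.i h1 = ((G.i.comp G.i).comp G.t).comp G.e := by
    have e1 : (G.i.comp G.i).comp G.t = G.t := by rw [RingHom.comp_assoc, G.i_t, G.i_s]
    rw [show G.comp (RingHom.id B) G.i h1 = ((RingHom.id B).comp G.t).comp G.e from a2, e1, RingHom.id_comp]
  have b2 : G.comp G.i (G.i.comp G.i) h2 = ((RingHom.id B).comp G.s).comp G.e := by
    rw [show G.comp G.i (G.i.comp G.i) h2 = (G.i.comp G.t).comp G.e from a3, G.i_t, RingHom.id_comp]
  rw [← a5, ← a4]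
  rw [comp_congr G b1.symm rfl, a1]
  exact comp_congr G rfl b2 _

theorem t_flat (hs : G.s.Flat) : G.t.Flat := by
  rw [← G.i_s]
  refine RingHom.Flat.comp hs (RingHom.Flat.of_bijective ?_)
  have h := i_i G
  refine ⟨fun x y hxy => ?_, fun y => ⟨G.i y, RingHom.congr_fun h y⟩⟩
  have := congrArg G.i hxy
  rwa [show G.i (G.i x) = x from RingHom.congr_fun h x, show G.i (G.i y) = y from RingHom.congr_fun h y] at this

/-- **Local finiteness.** -/
theorem exists_subcomodule [IsNoetherianRing A] (hs : G.s.Flat) (S : Set B) (hS : S.Finite) :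
    ∃ E : Submodule A (Bs G), E.FG ∧ (∀ b ∈ S, bs G b ∈ E) ∧
      ∀ b : B, bs G b ∈ E → De G b ∈ LinearMap.range (E.subtype.lTensor (Bt G)) := by
  obtain ⟨F, hF, hSF⟩ := TensorProduct.exists_finite_submodule_right_of_setFinite (R := A) (De G '' S) (hS.image _)
  have hFfg : F.FG := Module.Finite.iff_fg.1 hF
  refine ⟨LinearMap.ker (dl G F), ?_, ?_, ?_⟩
  · have hn : IsNoetherian A F := isNoetherian_of_fg_of_noetherian F hFfg
    exact (isNoetherian_submodule.1 hn) _ (ker_dl_le G F)
  · intro b hb
    obtain ⟨w, hw⟩ := hSF ⟨b, hb, rfl⟩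
    rw [LinearMap.mem_ker, dl_bs, ← hw]
    have : pr G F (LinearMap.lTensor (Bt G) F.subtype w) = 0 := by
      change (LinearMap.lTensor (Bt G) F.mkQ) (LinearMap.lTensor (Bt G) F.subtype w) = 0
      have h0 : F.mkQ ∘ₗ F.subtype = 0 := by
        ext x
        simp
      rw [← LinearMap.comp_apply, ← LinearMap.lTensor_comp, h0, LinearMap.lTensor_zero]
      rfl
    rw [this, map_zero]
  · intro b hb
    have hb' : pr G F (De G b) = 0 := (sm G _).injective (by rw [← dl_bs, map_zero]; exact hb)
    have h1 := De_mem G F b hb'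
    have ht : G.t.Flat := t_flat G hs
    have : Module.Flat A (Bt G) := ht
    have hex : Function.Exact (LinearMap.ker (dl G F)).subtype (dl G F) := LinearMap.exact_subtype_ker_map _
    exact (Module.Flat.lTensor_exact (M := Bt G) hex (De G b)).1 h1

end Groth.Agent.ResProp.EF.K956
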