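import Groth.Agent.ResProp.EF.K345.N1
import Groth.Agent.ResProp.EF.K412.Defs
import Groth.Agent.ResProp.EF.K956.LocFin

/-!
# Node N1 of G1 (team A): the choice datum `K412.Gen`
-/

set_option autoImplicit false
universe u

open Groth.Agent.Grpsch.AffGrpd TensorProduct MvPolynomial

namespace Groth.Agent.ResProp.EF.K956

section pow

variable {A R : Type u} [CommRing A] [CommRing R] [Algebra A R]

/-- the span of the products of `m` elements -/
theorem mem_span_pow {n m : ℕ} (x : Fin n → R) (y : R) (hy : y ∈ (Submodule.span A (Set.range x)) ^ m) :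
    ∃ p : (Fin m → Fin n) → A, ∑ J, p J • K412.mon x J = y := by
  rw [← Submodule.mem_span_range_iff_exists_fun]
  rw [Submodule.span_pow] at hy
  refine Submodule.span_mono ?_ hy
  intro z hz
  rw [Set.mem_pow] at hz
  obtain ⟨f, hf⟩ := hz
  have hf' : ∀ i, ∃ j : Fin n, x j = (f i : R) := fun i => (f i).2
  choose J hJ using hf'
  refine ⟨J, ?_⟩
  rw [← hf, List.prod_ofFn]
  exact Finset.prod_congr rfl fun i _ => hJ i

/-- a homogeneous polynomial as a combination of the products of `m` variables -/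
theorem homog_rep {n m : ℕ} (p : MvPolynomial (Fin n) A) (hp : p.IsHomogeneous m) :
    ∃ q : (Fin m → Fin n) → A, ∑ J, q J • K412.mon (X : Fin n → MvPolynomial (Fin n) A) J = p := by
  refine mem_span_pow (X : Fin n → MvPolynomial (Fin n) A) p ?_
  rw [← homogeneousSubmodule_one_eq_span_X, homogeneousSubmodule_one_pow]
  exact hp

end pow

variable {A B : Type u} [CommRing A] [CommRing B] (G : RGrpd A B)

/-- elements of the image of `B ⊗ E`, `E` spanned by the `c j` -/
theorem exists_coeff {n : ℕ} (c : Fin n → B) (E : Submodule A (Bs G))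
    (hE : Submodule.span A (Set.range fun j => bs G (c j)) = E) (z : R2 G)
    (hz : z ∈ LinearMap.range (E.subtype.lTensor (Bt G))) :
    ∃ x : Fin n → B, z = ∑ i, bt G (x i) ⊗ₜ[A] bs G (c i) := by
  obtain ⟨w, rfl⟩ := hz
  induction w using TensorProduct.induction_on with
  | zero => exact ⟨0, by simp⟩
  | add z w hz hw =>
    obtain ⟨x, hx⟩ := hz
    obtain ⟨y, hy⟩ := hw
    refine ⟨x + y, ?_⟩
    rw [map_add, hx, hy, ← Finset.sum_add_distrib]
    refine Finset.sum_congr rfl fun i _ => ?_
    rw [Pi.add_apply, map_add, TensorProduct.add_tmul]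
  | tmul b e =>
    obtain ⟨b, rfl⟩ := (bt G).surjective b
    have he : (e : Bs G) ∈ Submodule.span A (Set.range fun j => bs G (c j)) := by rw [hE]; exact e.2
    obtain ⟨a, ha⟩ := Submodule.mem_span_range_iff_exists_fun A |>.1 he
    refine ⟨fun i => G.t (a i) * b, ?_⟩
    rw [LinearMap.lTensor_tmul, Submodule.subtype_apply, ← ha, TensorProduct.tmul_sum]
    refine Finset.sum_congr rfl fun i _ => ?_
    rw [← bt_smul, TensorProduct.smul_tmul]

/-- coordinates of a f.g. subcomodule -/
theorem exists_coord [IsNoetherianRing A] (hs : G.s.Flat) (S : Set B) (hS : S.Finite) :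
    ∃ (n : ℕ) (c : Fin (n + 1) → B) (g : Matrix (Fin (n + 1)) (Fin (n + 1)) B), c 0 = 1 ∧
      (∀ b ∈ S, bs G b ∈ Submodule.span A (Set.range fun j => bs G (c j))) ∧
      ∀ j, De G (c j) = ∑ i, bt G (g i j) ⊗ₜ[A] bs G (c i) := by
  obtain ⟨E, hE, h1, h2⟩ := exists_subcomodule G hs (insert 1 S) (hS.insert 1)
  obtain ⟨n, v, hv⟩ := Submodule.fg_iff_exists_fin_generating_family.1 hE
  let c : Fin (n + 1) → B := Fin.cons 1 (fun i => (bs G).symm (v i))
  have hc0 : c 0 = 1 := rfl
  have hcs : ∀ i, bs G (c i.succ) = v i := fun i => rfl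
  have hspan : Submodule.span A (Set.range fun j => bs G (c j)) = E := by
    apply le_antisymm
    · rw [Submodule.span_le]
      rintro _ ⟨j, rfl⟩
      refine Fin.cases ?_ (fun i => ?_) j
      · exact h1 1 (Set.mem_insert _ _)
      · change bs G (c i.succ) ∈ E
        rw [hcs, ← hv]
        exact Submodule.subset_span ⟨i, rfl⟩
    · rw [← hv, Submodule.span_le]
      rintro _ ⟨i, rfl⟩
      exact Submodule.subset_span ⟨i.succ, hcs i⟩
  have hcE : ∀ j, bs G (c j) ∈ E := fun j => by rw [← hspan]; exact Submodule.subset_span ⟨j, rfl⟩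
  choose g hg using fun j => exists_coeff G c E hspan (De G (c j)) (h2 _ (hcE j))
  refine ⟨n, c, fun i j => g j i, hc0, fun b hb => ?_, hg⟩
  rw [hspan]
  exact h1 b (Set.mem_insert_of_mem _ hb)

theorem exists_factor {P S T : Type u} [CommRing P] [CommRing S] [CommRing T] (f : P →+* S)
    (hf : Function.Surjective f) (ψ : P →+* T) (h : RingHom.ker f ≤ RingHom.ker ψ) : ∃ F : S →+* T, ∀ p, F (f p) = ψ p :=
  ⟨RingHom.liftOfSurjective f hf ⟨ψ, h⟩, fun p => RingHom.liftOfRightInverse_comp_apply f _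
    (Function.rightInverse_surjInv hf) ⟨ψ, h⟩ p⟩

theorem n1 : K412.N1.{u} := by
  intro Lb A B _ _ _ _ G hA hft hs hsft hst
  -- generators of `B` over `A`
  have hBft : Algebra.FiniteType A (Bs G) := hsft
  obtain ⟨S0, hS0⟩ := hBft.out
  obtain ⟨n, c, g, hc0, hcS, hg⟩ := exists_coord G hs ((bs G) ⁻¹' (S0 : Set (Bs G)))
    (S0.finite_toSet.preimage (bs G).injective.injOn)
  set x : Fin (n + 1) → Bs G := fun j => bs G (c j) with hx
  set E : Submodule A (Bs G) := Submodule.span A (Set.range x) with hEdef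
  have h1E : (1 : Bs G) ∈ E := Submodule.subset_span ⟨0, by rw [hx]; change bs G (c 0) = 1; rw [hc0, map_one]⟩
  have hadj : Algebra.adjoin A (E : Set (Bs G)) = ⊤ := by
    rw [eq_top_iff, ← hS0]
    refine Algebra.adjoin_mono ?_
    intro y hy
    obtain ⟨b, rfl⟩ := (bs G).surjective y
    exact hcS b hy
  have hadj' : Algebra.adjoin A (Set.range x) = ⊤ := by
    rw [eq_top_iff, ← hadj]
    refine Algebra.adjoin_le ?_
    exact Algebra.span_le_adjoin A _
  -- generators of `A` over `Lb`
  obtain ⟨S1, hS1⟩ := hft.out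
  obtain ⟨q, y, hy⟩ : ∃ (q : ℕ) (y : Fin q → A), Set.range y = S1 :=
    ⟨S1.card, fun i => (S1.equivFin.symm i : A), by
      ext a
      constructor
      · rintro ⟨i, rfl⟩; exact (S1.equivFin.symm i).2
      · intro ha; exact ⟨S1.equivFin ⟨a, ha⟩, by simp⟩⟩
  -- the choice of `m`
  have hfin : (Set.range (fun l => bs G (G.t (y l))) ∪ Set.range (fun ij : Fin (n + 1) × Fin (n + 1) =>
      bs G (G.i (g ij.1 ij.2)))).Finite := (Set.finite_range _).union (Set.finite_range _)
  obtain ⟨m₁, hm₁⟩ := K345.exists_subset_pow E h1E hadj _ hfin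
  obtain ⟨m₂, hm₂⟩ := K345.exists_ker_aeval (A := A) x 0 (by rw [hx]; change bs G (c 0) = 1; rw [hc0, map_one])
  let m := max m₁ m₂
  have hm1 : m₁ ≤ m := le_max_left _ _
  have hm2 : m₂ ≤ m := le_max_right _ _
  have hmon : ∀ J : Fin m → Fin (n + 1), K412.mon x J = bs G (K412.mon c J) := by
    intro J
    rw [K412.mon, K412.mon, map_prod]
  have hcoef : ∀ b : B, bs G b ∈ E ^ m → ∃ p : (Fin m → Fin (n + 1)) → A, b = ∑ J, G.s (p J) * K412.mon c J := by
    intro b hb
    obtain ⟨p, hp⟩ := mem_span_pow x _ hb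
    refine ⟨p, (bs G).injective ?_⟩
    rw [← hp, map_sum]
    refine Finset.sum_congr rfl fun J _ => ?_
    rw [hmon, bs_smul]
  have htx : ∀ l, ∃ p : (Fin m → Fin (n + 1)) → A, G.t (y l) = ∑ J, G.s (p J) * K412.mon c J :=
    fun l => hcoef _ (hm₁ m hm1 (Or.inl ⟨l, rfl⟩))
  have hig : ∀ i j, ∃ p : (Fin m → Fin (n + 1)) → A, G.i (g i j) = ∑ J, G.s (p J) * K412.mon c J :=
    fun i j => hcoef _ (hm₁ m hm1 (Or.inr ⟨(i, j), rfl⟩))
  choose tx htx using htx
  choose ig hig using hig
  refine ⟨{ n := n + 1, m := m, c := c, i0 := 0, c_i0 := hc0, g := g, comp_c := ?_, gen := ?_, pres := ?_,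
            q := q, x := y, x_gen := by rw [hy]; exact hS1, tx := tx, t_x := htx, ig := ig, i_g := hig, st := hst }⟩
  · intro T _ α β h j
    rw [comp_eq, RingHom.comp_apply, hg, map_sum]
    refine Finset.sum_congr rfl fun i _ => ?_
    rw [lift2_tmul, mul_comm]
  · intro T _ F F' h1 h2
    have key : ∀ z : Bs G, F ((bs G).symm z) = F' ((bs G).symm z) := by
      intro z
      have hz : z ∈ Algebra.adjoin A (Set.range x) := by rw [hadj']; trivial
      induction hz using Algebra.adjoin_induction with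
      | mem z hz =>
        obtain ⟨j, rfl⟩ := hz
        exact h2 j
      | algebraMap r => exact RingHom.congr_fun h1 r
      | add z w _ _ hz hw => rw [map_add, map_add, map_add, hz, hw]
      | mul z w _ _ hz hw => rw [map_mul, map_mul, map_mul, hz, hw]
    ext b
    exact key (bs G b)
  · intro T _ a v hv0 hrel
    let ψ : MvPolynomial (Fin (n + 1)) A →+* T := eval₂Hom a v
    have hsurj : Function.Surjective (aeval x : MvPolynomial (Fin (n + 1)) A →ₐ[A] Bs G) := by
      rw [← AlgHom.range_eq_top, ← Algebra.adjoin_range_eq_range_aeval, hadj']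
    have hker : RingHom.ker ((aeval x : MvPolynomial (Fin (n + 1)) A →ₐ[A] Bs G) : _ →+* Bs G) ≤ RingHom.ker ψ := by
      have h3 := hm₂ m hm2
      change RingHom.ker (aeval x : MvPolynomial (Fin (n + 1)) A →ₐ[A] Bs G) ≤ _
      rw [h3, Ideal.span_le]
      rintro p (hp | ⟨hp, hp0⟩)
      · rw [Set.mem_singleton_iff] at hp
        subst hp
        change ψ _ = 0
        simp [ψ, hv0]
      · obtain ⟨u, hu⟩ := homog_rep p hp
        change ψ p = 0
        have e1 : ∑ J, G.s (u J) * K412.mon c J = 0 := by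
          apply (bs G).injective
          rw [map_zero, ← hp0, ← hu, map_sum, map_sum]
          refine Finset.sum_congr rfl fun J _ => ?_
          rw [map_smul, ← bs_smul, ← hmon]
          congr 1
          simp [K412.mon]
        have e2 := hrel u e1
        rw [← hu, map_sum, ← e2]
        refine Finset.sum_congr rfl fun J _ => ?_
        rw [MvPolynomial.smul_eq_C_mul, map_mul]
        simp [ψ, K412.mon]
    obtain ⟨F, hF⟩ := exists_factor ((aeval x : MvPolynomial (Fin (n + 1)) A →ₐ[A] Bs G) : _ →+* Bs G) hsurj ψ hker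
    refine ⟨F.comp (bs G : B →+* Bs G), ?_, ?_⟩
    · ext r
      have h4 := hF (C r)
      have h5 : bs G (G.s r) = (aeval x : MvPolynomial (Fin (n + 1)) A →ₐ[A] Bs G) (C r) := by
        rw [← MvPolynomial.algebraMap_eq, AlgHom.commutes]; rfl
      change F (bs G (G.s r)) = a r
      rw [h5]
      refine h4.trans ?_
      simp [ψ]
    · intro j
      have h4 := hF (X j)
      have h5 : bs G (c j) = (aeval x : MvPolynomial (Fin (n + 1)) A →ₐ[A] Bs G) (X j) := by
        rw [aeval_X]
      change F (bs G (c j)) = v j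
      rw [h5]
      refine h4.trans ?_
      simp [ψ]

end Groth.Agent.ResProp.EF.K956
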